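import Groth.Agent.L15.GenSub.Dom
import Groth.Agent.L08.SubgroupObj
import Groth.Agent.L18.KerReduced
import Groth.Agent.L15.SubGrp.Image
import Groth.Prelude.Def_Red

/-!
The closed subgroup generated by a geometrically reduced scheme over a field, and its behaviour under base change.
-/

set_option autoImplicit false
universe u

open CategoryTheory CategoryTheory.Limits MonoidalCategory CartesianMonoidalCategory MonObj AlgebraicGeometry
open Groth.L02.SchDom

set_option backward.isDefEq.respectTransparency.types false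

namespace Groth.L15.GenSub

variable {k : Type u} [Field k] {G X : Over (Spec (CommRingCat.of k))} [GrpObj G]

/-- The source of a word. -/
noncomputable def WObj (X : Over (Spec (CommRingCat.of k))) : List Bool → Over (Spec (CommRingCat.of k))
  | [] => 𝟙_ _
  | _ :: l => X ⊗ WObj X l

/-- A word in `f` and its inverse. -/
noncomputable def wMap (f : X ⟶ G) : ∀ l : List Bool, WObj X l ⟶ G
  | [] => 1
  | b :: l => (fst X (WObj X l) ≫ (if b then f else f⁻¹)) * (snd X (WObj X l) ≫ wMap f l)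

theorem redProd_WObj [GeometricallyReduced X.hom] : ∀ l, RedProd (WObj X l)
  | [] => redProd_unit
  | _ :: l => (redProd_of_geometricallyReduced X).tensor (redProd_WObj l)

theorem exists_append (f : X ⟶ G) : ∀ l l' : List Bool, ∃ r : WObj X l ⊗ WObj X l' ⟶ WObj X (l ++ l'),
    r ≫ wMap f (l ++ l') = (fst _ _ ≫ wMap f l) * (snd _ _ ≫ wMap f l')
  | [], l' => ⟨snd _ _, by simp [wMap]⟩
  | b :: l, l' => by
    obtain ⟨r, hr⟩ := exists_append f l l'
    suffices hs : ∃ q : (X ⊗ WObj X l) ⊗ WObj X l' ⟶ X ⊗ WObj X (l ++ l'),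
        q ≫ ((fst X (WObj X (l ++ l')) ≫ (if b then f else f⁻¹)) * (snd X (WObj X (l ++ l')) ≫ wMap f (l ++ l'))) =
        (fst (X ⊗ WObj X l) _ ≫ ((fst X (WObj X l) ≫ (if b then f else f⁻¹)) * (snd X (WObj X l) ≫ wMap f l))) *
          (snd (X ⊗ WObj X l) _ ≫ wMap f l') from hs
    refine ⟨lift (fst _ _ ≫ fst X (WObj X l)) (lift (fst _ _ ≫ snd X (WObj X l)) (snd _ _) ≫ r), ?_⟩
    rw [MonObj.comp_mul, lift_fst_assoc, lift_snd_assoc, Category.assoc _ r, hr, MonObj.comp_mul,
      lift_fst_assoc, lift_snd_assoc, MonObj.comp_mul]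
    simp only [Category.assoc, _root_.mul_assoc]

theorem exists_inv (f : X ⟶ G) : ∀ l : List Bool, ∃ (l' : List Bool) (r : WObj X l ⟶ WObj X l'),
    r ≫ wMap f l' = (wMap f l)⁻¹
  | [] => ⟨[], 𝟙 _, by simp [wMap]⟩
  | b :: l => by
    obtain ⟨l', r, hr⟩ := exists_inv f l
    obtain ⟨s, hs⟩ := exists_append f l' [!b]
    have h1 : lift (𝟙 X) (toUnit X) ≫ ((fst X (WObj X []) ≫ (if !b then f else f⁻¹)) * (snd X (WObj X []) ≫ wMap f [])) =
        (if !b then f else f⁻¹) := by
      simp [wMap]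
      erw [lift_fst_assoc, Category.id_comp]
    let v : X ⟶ WObj X [!b] := lift (𝟙 X) (toUnit X)
    have h2 : v ≫ wMap f [!b] = (if !b then f else f⁻¹) := h1
    suffices hq : ∃ q : X ⊗ WObj X l ⟶ WObj X (l' ++ [!b]),
        q ≫ wMap f (l' ++ [!b]) = ((fst X (WObj X l) ≫ (if b then f else f⁻¹)) * (snd X (WObj X l) ≫ wMap f l))⁻¹ from
      ⟨l' ++ [!b], hq⟩
    refine ⟨lift (snd X (WObj X l) ≫ r) (fst X (WObj X l) ≫ v) ≫ s, ?_⟩
    rw [Category.assoc, hs, MonObj.comp_mul, lift_fst_assoc, lift_snd_assoc, Category.assoc, hr,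
      Category.assoc, h2, mul_inv_rev, GrpObj.comp_inv, ← GrpObj.comp_inv (fst X (WObj X l))]
    cases b <;> simp

theorem exists_factor (f : X ⟶ G) {N : Over (Spec (CommRingCat.of k))} [GrpObj N] (i : N ⟶ G) [IsMonHom i]
    (g : X ⟶ N) (hg : g ≫ i = f) : ∀ l, ∃ h : WObj X l ⟶ N, h ≫ i = wMap f l
  | [] => ⟨1, MonObj.one_comp i⟩
  | b :: l => by
    obtain ⟨h, hh⟩ := exists_factor f i g hg l
    suffices hs : ∃ q : X ⊗ WObj X l ⟶ N,
        q ≫ i = (fst X (WObj X l) ≫ (if b then f else f⁻¹)) * (snd X (WObj X l) ≫ wMap f l) from hs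
    refine ⟨(fst X (WObj X l) ≫ (if b then g else g⁻¹)) * (snd X (WObj X l) ≫ h), ?_⟩
    rw [MonObj.mul_comp, Category.assoc, Category.assoc, hh]
    congr 2
    cases b
    · show g⁻¹ ≫ i = f⁻¹
      rw [GrpObj.inv_comp, hg]
    · exact hg

theorem exists_generated [GeometricallyReduced X.hom] (f : X ⟶ G) :
    ∃ (Γ : Over (Spec (CommRingCat.of k))) (_ : GrpObj Γ) (i : Γ ⟶ G), IsMonHom i ∧ IsClosedImmersion i.left ∧
      (∃ f' : X ⟶ Γ, f' ≫ i = f) ∧ GeometricallyReduced Γ.hom ∧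
      (∀ (Γ' : Over (Spec (CommRingCat.of k))) (_ : GrpObj Γ') (i' : Γ' ⟶ G), IsMonHom i' → IsClosedImmersion i'.left →
        (∃ f'' : X ⟶ Γ', f'' ≫ i' = f) → ∃ j : Γ ⟶ Γ', j ≫ i' = i) ∧
      ∃ h : ∀ l : ULift.{u} (List Bool), WObj X l.down ⟶ Γ,
        (∀ l, h l ≫ i = wMap f l.down) ∧ Dom fun l => (h l).left := by
  let Y : Set G.left := closure (⋃ l : ULift.{u} (List Bool), Set.range (wMap f l.down).left)
  let I := Scheme.IdealSheafData.vanishingIdeal (X := G.left) ⟨Y, isClosed_closure⟩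
  let Γ : Over (Spec (CommRingCat.of k)) := Over.mk (I.subschemeι ≫ G.hom)
  let i : Γ ⟶ G := Over.homMk I.subschemeι
  haveI hic : IsClosedImmersion i.left := inferInstanceAs (IsClosedImmersion I.subschemeι)
  haveI : Mono i := Over.mono_of_mono_left i
  have hr : Set.range i.left = Y := by
    show Set.range I.subschemeι = _
    rw [Scheme.IdealSheafData.range_subschemeι, Scheme.IdealSheafData.coe_support_vanishingIdeal]; rfl
  haveI : IsReduced Γ.left := Groth.L18.isReduced_vanishingIdeal_subscheme _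
  have hfac : ∀ {T : Over (Spec (CommRingCat.of k))} (g : T ⟶ G), IsReduced T.left →
      Set.range g.left ⊆ Y → ∃ g' : T ⟶ Γ, g' ≫ i = g := by
    intro T g hT hg
    obtain ⟨m, hm⟩ := exists_lift_of_range i.left g.left (hr.symm ▸ hg)
    exact ⟨Over.homMk m (by rw [← Over.w i, reassoc_of% hm, Over.w g]), Over.OverMorphism.ext hm⟩
  have hsub : ∀ l : ULift.{u} (List Bool), Set.range (wMap f l.down).left ⊆ Y := fun l =>
    (Set.subset_iUnion (fun l : ULift.{u} (List Bool) => Set.range (wMap f l.down).left) l).trans subset_closure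
  choose h hh using fun l : ULift.{u} (List Bool) =>
    hfac (wMap f l.down) (redProd_WObj l.down).isReduced (hsub l)
  have hdense : Dense (⋃ l : ULift.{u} (List Bool), Set.range (h l).left) := by
    rw [dense_iff_closure_eq, i.left.isEmbedding.closure_eq_preimage_closure_image, Set.image_iUnion]
    have e : ∀ l, i.left '' Set.range (h l).left = Set.range (wMap f l.down).left := fun l => by
      rw [← Set.range_comp, ← TopCat.coe_comp, ← Scheme.Hom.comp_base, ← Over.comp_left, hh]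
    simp only [e]
    exact Set.eq_univ_of_forall fun x => (hr.le (Set.mem_range_self x) : _)
  have hdom : Dom fun l => (h l).left := dom_of_dense hdense
  have hΓ : RedProd Γ := redProd_of_dom h hdom fun l => redProd_WObj l.down
  have hmulmem : ∀ z, ((fst Γ Γ ≫ i) * (snd Γ Γ ≫ i)).left z ∈ Y := by
    let m : Γ ⊗ Γ ⟶ G := (fst Γ Γ ≫ i) * (snd Γ Γ ≫ i)
    suffices hs : Set.univ ⊆ m.left ⁻¹' Y from fun z => hs trivial
    have hd1 := dom_dense (dom_whiskerRight h hdom Γ)
    rw [← hd1.closure_eq]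
    refine closure_minimal (Set.iUnion_subset fun l => ?_) (isClosed_closure.preimage m.left.continuous)
    rintro _ ⟨z, rfl⟩
    show m.left ((h l ▷ Γ).left z) ∈ Y
    rw [← Scheme.Hom.comp_apply, ← Over.comp_left]
    suffices hs : Set.univ ⊆ (h l ▷ Γ ≫ m).left ⁻¹' Y from hs trivial
    haveI : ∀ l' : ULift.{u} (List Bool), IsIso (β_ (WObj X l.down) (WObj X l'.down)).hom.left := fun l' =>
      inferInstanceAs (IsIso ((Over.forget _).map (β_ (WObj X l.down) (WObj X l'.down)).hom))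
    have hd2 := dom_dense (dom_iso_comp (dom_whiskerRight h hdom (WObj X l.down))
      (g := fun l' => ((β_ (WObj X l.down) (WObj X l'.down)).hom ≫ (h l' ▷ WObj X l.down)).left)
      (e := fun l' => (β_ (WObj X l.down) (WObj X l'.down)).hom.left)
      (he := fun l' => rfl))
    intro z _
    obtain ⟨z', rfl⟩ : ∃ z', (β_ Γ (WObj X l.down)).hom.left z' = z :=
      ⟨(β_ Γ (WObj X l.down)).inv.left z, by
        rw [← Scheme.Hom.comp_apply, ← Over.comp_left, Iso.inv_hom_id]; rfl⟩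
    show (h l ▷ Γ ≫ m).left ((β_ Γ (WObj X l.down)).hom.left z') ∈ Y
    rw [← Scheme.Hom.comp_apply, ← Over.comp_left]
    suffices hs : Set.univ ⊆ ((β_ Γ (WObj X l.down)).hom ≫ h l ▷ Γ ≫ m).left ⁻¹' Y from hs trivial
    rw [← hd2.closure_eq]
    refine closure_minimal (Set.iUnion_subset fun l' => ?_)
      (isClosed_closure.preimage (Scheme.Hom.continuous _))
    rintro _ ⟨q, rfl⟩
    show ((β_ Γ (WObj X l.down)).hom ≫ h l ▷ Γ ≫ m).left
      (((β_ (WObj X l.down) (WObj X l'.down)).hom ≫ h l' ▷ WObj X l.down).left q) ∈ Y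
    rw [← Scheme.Hom.comp_apply, ← Over.comp_left]
    obtain ⟨r, hr⟩ := exists_append f l.down l'.down
    have e : ((β_ (WObj X l.down) (WObj X l'.down)).hom ≫ h l' ▷ WObj X l.down) ≫
        ((β_ Γ (WObj X l.down)).hom ≫ h l ▷ Γ ≫ m) = r ≫ wMap f (l.down ++ l'.down) := by
      rw [hr]
      simp only [m, MonObj.comp_mul, Category.assoc]
      simp [← hh]
    rw [e, Over.comp_left, Scheme.Hom.comp_apply]
    exact hsub ⟨l.down ++ l'.down⟩ ⟨_, rfl⟩
  have hinvmem : ∀ z, (i⁻¹).left z ∈ Y := by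
    suffices hs : Set.univ ⊆ (i⁻¹).left ⁻¹' Y from fun z => hs trivial
    rw [← hdense.closure_eq]
    refine closure_minimal (Set.iUnion_subset fun l => ?_) (isClosed_closure.preimage (i⁻¹).left.continuous)
    rintro _ ⟨z, rfl⟩
    show (i⁻¹).left ((h l).left z) ∈ Y
    rw [← Scheme.Hom.comp_apply, ← Over.comp_left, GrpObj.comp_inv, hh]
    obtain ⟨l', r, hr⟩ := exists_inv f l.down
    rw [← hr, Over.comp_left, Scheme.Hom.comp_apply]
    exact hsub ⟨l'⟩ ⟨_, rfl⟩
  obtain ⟨inst, hi⟩ := Groth.L08.exists_grpObj_of_mono i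
    ⟨h ⟨[]⟩, (hh ⟨[]⟩).trans (MonObj.one_eq_one G).symm⟩
    (hfac _ (hΓ Γ inferInstance) (Set.range_subset_iff.2 hmulmem))
    (hfac i⁻¹ inferInstance (Set.range_subset_iff.2 hinvmem))
  refine ⟨Γ, inst, i, hi, hic, ?_, hΓ.geometricallyReduced, ?_, h, hh, hdom⟩
  · refine hfac f (redProd_of_geometricallyReduced X).isReduced ?_
    rintro _ ⟨x, rfl⟩
    have e : (lift (𝟙 X) (toUnit X) : X ⟶ WObj X [true]) ≫ wMap f [true] = f := by
      simp [wMap]
    rw [← e, Over.comp_left, Scheme.Hom.comp_apply]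
    exact hsub ⟨[true]⟩ ⟨_, rfl⟩
  · rintro Γ' _ i' hi' hc' ⟨g, hg⟩
    haveI := hi'
    haveI := hc'
    obtain ⟨m, hm⟩ := exists_lift_of_range i'.left i.left (by
      rw [hr]
      refine closure_minimal (Set.iUnion_subset fun l => ?_) i'.left.isClosedEmbedding.isClosed_range
      obtain ⟨q, hq⟩ := exists_factor f i' g hg l.down
      rw [← hq, Over.comp_left, Scheme.Hom.comp_base, TopCat.coe_comp]
      exact Set.range_comp_subset_range _ _)
    exact ⟨Over.homMk m (by rw [← Over.w i', reassoc_of% hm, Over.w i]), Over.OverMorphism.ext hm⟩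

end Groth.L15.GenSub
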