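import Groth.Agent.L02.SchDom.Apply
import Groth.Agent.L25.Translate
import Mathlib.AlgebraicGeometry.Geometrically.Reduced
import Mathlib.AlgebraicGeometry.Morphisms.ClosedImmersion
import Mathlib.CategoryTheory.Monoidal.Cartesian.Over

/-!
Schematically dominant families, reducedness and products over a field.
-/

set_option autoImplicit false
universe u

open CategoryTheory CategoryTheory.Limits MonoidalCategory CartesianMonoidalCategory AlgebraicGeometry
open Groth.L02.SchDom

set_option backward.isDefEq.respectTransparency.types false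

namespace Groth.L15.GenSub

variable {X : Scheme.{u}} {ι : Type u} {Z : ι → Scheme.{u}}

theorem dom_dense {f : ∀ i, Z i ⟶ X} (H : Dom f) : Dense (⋃ i, Set.range (f i)) := by
  rw [dense_iff_inter_open]
  intro U hU hne
  by_contra hem
  rw [Set.not_nonempty_iff_eq_empty] at hem
  obtain ⟨x, hx⟩ := hne
  have h0 : (1 : Γ(X, ⟨U, hU⟩)) = 0 := H ⟨U, hU⟩ 1 fun i => by
    have hb : (f i) ⁻¹ᵁ (⟨U, hU⟩ : X.Opens) = ⊥ := by
      ext z
      refine ⟨fun hz => ?_, fun hz => hz.elim⟩
      have h : f i z ∈ U ∩ ⋃ j, Set.range (f j) := ⟨hz, Set.mem_iUnion.2 ⟨i, z, rfl⟩⟩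
      rw [hem] at h
      exact h.elim
    haveI : Subsingleton Γ(Z i, (f i) ⁻¹ᵁ ⟨U, hU⟩) := by rw [hb]; infer_instance
    exact Subsingleton.elim _ _
  have h1 : (X.presheaf.germ ⟨U, hU⟩ x hx).hom 1 = (X.presheaf.germ ⟨U, hU⟩ x hx).hom 0 := congrArg _ h0
  rw [map_one, map_zero] at h1
  exact one_ne_zero h1

theorem dom_of_dense [IsReduced X] {f : ∀ i, Z i ⟶ X} (H : Dense (⋃ i, Set.range (f i))) : Dom f := by
  intro V t ht
  refine (basicOpen_eq_bot_iff t).1 ?_
  by_contra hne
  obtain ⟨x, hx⟩ : (X.basicOpen t : Set X).Nonempty := by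
    rw [Set.nonempty_iff_ne_empty]
    exact fun h => hne (SetLike.coe_injective (h.trans (TopologicalSpace.Opens.coe_bot).symm))
  obtain ⟨y, hy, hyu⟩ := H.inter_open_nonempty _ (X.basicOpen t).2 ⟨x, hx⟩
  obtain ⟨i, z, rfl⟩ := Set.mem_iUnion.1 hyu
  have h2 : z ∈ (f i) ⁻¹ᵁ X.basicOpen t := hy
  rw [Scheme.preimage_basicOpen, ht i, Scheme.basicOpen_zero] at h2
  exact h2

theorem dom_isReduced {f : ∀ i, Z i ⟶ X} (H : Dom f) [∀ i, IsReduced (Z i)] : IsReduced X :=
  ⟨fun V => ⟨fun t ht => H V t fun i => (ht.map ((f i).app V).hom).eq_zero⟩⟩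

theorem dom_iso_comp {f : ∀ i, Z i ⟶ X} (H : Dom f) {W : ι → Scheme.{u}} {g : ∀ i, W i ⟶ X}
    (e : ∀ i, W i ⟶ Z i) [∀ i, IsIso (e i)] (he : ∀ i, e i ≫ f i = g i) : Dom g := by
  intro V t ht
  refine H V t fun i => ?_
  haveI : IsIso ((e i).app ((f i) ⁻¹ᵁ V)) := inferInstance
  apply (ConcreteCategory.bijective_of_isIso ((e i).app ((f i) ⁻¹ᵁ V))).injective
  rw [map_zero]
  have h := ht i
  rw [← he i, Scheme.Hom.comp_app] at h
  exact h

theorem exists_lift_of_range {T W : Scheme.{u}} [IsReduced T] (i : W ⟶ X) [IsClosedImmersion i]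
    (m : T ⟶ X) (h : Set.range m ⊆ Set.range i) : ∃ l : T ⟶ W, l ≫ i = m := by
  haveI : Surjective (pullback.snd i m) := ⟨fun t => by
    obtain ⟨z, hz⟩ := h ⟨t, rfl⟩
    obtain ⟨w, -, hw⟩ := Scheme.Pullback.exists_preimage_pullback (f := i) (g := m) z t hz
    exact ⟨w, hw⟩⟩
  haveI : IsIso (pullback.snd i m) := isIso_of_isClosedImmersion_of_surjective _
  exact ⟨inv (pullback.snd i m) ≫ pullback.fst i m, by
    rw [Category.assoc, pullback.condition, IsIso.inv_hom_id_assoc]⟩

variable {k : Type u} [Field k]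

/-- Products with an arbitrary reduced scheme over the field are reduced. -/
def RedProd (A : Over (Spec (CommRingCat.of k))) : Prop :=
  ∀ B : Over (Spec (CommRingCat.of k)), IsReduced B.left → IsReduced (A ⊗ B).left

theorem dom_whiskerRight {J : Type u} {W : J → Over (Spec (CommRingCat.of k))}
    {Y : Over (Spec (CommRingCat.of k))} (h : ∀ j, W j ⟶ Y) (H : Dom fun j => (h j).left)
    (B : Over (Spec (CommRingCat.of k))) : Dom fun j => (h j ▷ B).left := by
  have H2 := H.baseChange_field Y.hom B.hom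
  refine dom_iso_comp H2 (fun j => (pullback.congrHom (Over.w (h j)) rfl).inv) fun j => ?_
  have h1 : (pullback.congrHom (Over.w (h j)) rfl).inv ≫ Groth.L02.SchDom.bcMap Y.hom B.hom (fun j => (h j).left) j =
      pullback.map (W j).hom B.hom Y.hom B.hom (h j).left (𝟙 _) (𝟙 _) (by simp) (by simp) := by
    rw [Iso.inv_comp_eq]
    apply pullback.hom_ext <;> simp [Groth.L02.SchDom.bcMap, pullback.congrHom, pullback.map]
    · erw [pullback.lift_fst, pullback.lift_fst, pullback.lift_fst_assoc]
    · erw [pullback.lift_snd, pullback.lift_snd, pullback.lift_snd]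
  rw [h1, Over.whiskerRight_left]

theorem redProd_of_dom {J : Type u} {W : J → Over (Spec (CommRingCat.of k))}
    {Y : Over (Spec (CommRingCat.of k))} (h : ∀ j, W j ⟶ Y) (H : Dom fun j => (h j).left)
    (hW : ∀ j, RedProd (W j)) : RedProd Y := fun B hB =>
  haveI := fun j => hW j B hB
  dom_isReduced (dom_whiskerRight h H B)

theorem redProd_of_geometricallyReduced (A : Over (Spec (CommRingCat.of k))) [GeometricallyReduced A.hom] :
    RedProd A := by
  intro B hB
  let P : B.left → Over (Spec (CommRingCat.of k)) := fun y => Over.mk (B.left.fromSpecResidueField y ≫ B.hom)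
  let q : ∀ y, P y ⟶ B := fun y => Over.homMk (B.left.fromSpecResidueField y)
  have hd : Dom fun y => (q y).left := by
    refine dom_of_dense ?_
    refine dense_iff_closure_eq.2 (Set.eq_univ_of_forall fun y => subset_closure (Set.mem_iUnion.2 ⟨y, ?_⟩))
    exact ⟨IsLocalRing.closedPoint _, Scheme.fromSpecResidueField_apply y _⟩
  haveI : ∀ y, IsReduced (P y ⊗ A).left := fun y =>
    GeometricallyReduced.geometrically_isReduced (f := A.hom) (P y).hom _ _
      (IsPullback.of_hasPullback (P y).hom A.hom).flip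
  haveI : IsReduced (B ⊗ A).left := dom_isReduced (dom_whiskerRight q hd A)
  exact isReduced_of_isOpenImmersion (β_ A B).hom.left

theorem RedProd.tensor {A A' : Over (Spec (CommRingCat.of k))} (h : RedProd A) (h' : RedProd A') :
    RedProd (A ⊗ A') := fun B hB => by
  haveI := h (A' ⊗ B) (h' B hB)
  exact isReduced_of_isOpenImmersion (α_ A A' B).hom.left

theorem redProd_unit : RedProd (𝟙_ (Over (Spec (CommRingCat.of k)))) := fun B hB => by
  haveI := hB
  exact isReduced_of_isOpenImmersion (λ_ B).hom.left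

theorem RedProd.isReduced {A : Over (Spec (CommRingCat.of k))} (h : RedProd A) : IsReduced A.left := by
  haveI := h (𝟙_ _) (inferInstanceAs (IsReduced (Spec (CommRingCat.of k))))
  exact isReduced_of_isOpenImmersion (ρ_ A).inv.left

theorem RedProd.geometricallyReduced {A : Over (Spec (CommRingCat.of k))} (h : RedProd A) :
    GeometricallyReduced A.hom := by
  refine ⟨fun {K} _ y Y fst snd sq => ?_⟩
  have this : IsReduced (A ⊗ Over.mk y).left := h _ (inferInstanceAs (IsReduced (Spec (CommRingCat.of K))))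
  haveI : IsReduced (pullback A.hom y) := this
  exact isReduced_of_isOpenImmersion sq.isoPullback.hom

end Groth.L15.GenSub
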