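import Groth.Agent.L15.GenSub.Subgroup
import Groth.Agent.L25.Translate
import Mathlib.AlgebraicGeometry.Morphisms.Immersion

/-!
The generated subgroup commutes with arbitrary base change.
-/

set_option autoImplicit false
universe u

open CategoryTheory CategoryTheory.Limits MonoidalCategory CartesianMonoidalCategory MonObj AlgebraicGeometry
open Groth.L02.SchDom

set_option backward.isDefEq.respectTransparency.types false

namespace Groth.L15.GenSub

variable {k : Type u} [Field k] {G X : Over (Spec (CommRingCat.of k))} [GrpObj G]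

theorem dom_comp_iso {Y Y' : Scheme.{u}} {ρ : Type u} {Z : ρ → Scheme.{u}} {f : ∀ i, Z i ⟶ Y}
    (H : Dom f) (e : Y ⟶ Y') [IsIso e] : Dom fun i => f i ≫ e := by
  intro V t ht
  apply (ConcreteCategory.bijective_of_isIso (e.app V)).injective
  rw [map_zero]
  refine H _ _ fun i => ?_
  have h := ht i
  rw [Scheme.Hom.comp_app] at h
  exact h

theorem exists_map_factor {S : Scheme.{u}} (σ : S ⟶ Spec (CommRingCat.of k)) (f : X ⟶ G) (Γ' : Over S) [GrpObj Γ']
    (i' : Γ' ⟶ Red.bc σ G) [IsMonHom i'] (g : Red.bc σ X ⟶ Γ') (hg : g ≫ i' = (Over.pullback σ).map f) :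
    ∀ l, ∃ q : (Over.pullback σ).obj (WObj X l) ⟶ Γ', q ≫ i' = (Over.pullback σ).map (wMap f l)
  | [] => ⟨1, by
      rw [MonObj.one_comp]
      exact ((Over.pullback σ).map_one (X := 𝟙_ _) (M := G)).symm⟩
  | b :: l => by
    obtain ⟨q, hq⟩ := exists_map_factor σ f Γ' i' g hg l
    suffices hs : ∃ q' : (Over.pullback σ).obj (X ⊗ WObj X l) ⟶ Γ', q' ≫ i' =
        (Over.pullback σ).map ((fst X (WObj X l) ≫ (if b then f else f⁻¹)) * (snd X (WObj X l) ≫ wMap f l)) from hs
    refine ⟨((Over.pullback σ).map (fst X (WObj X l)) ≫ (if b then g else g⁻¹)) *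
      ((Over.pullback σ).map (snd X (WObj X l)) ≫ q), ?_⟩
    rw [MonObj.mul_comp, Functor.map_mul, Category.assoc, Category.assoc, hq, Functor.map_comp, Functor.map_comp]
    congr 2
    cases b
    · show g⁻¹ ≫ i' = (Over.pullback σ).map f⁻¹
      rw [GrpObj.inv_comp, hg]
      exact (map_inv ((Over.pullback σ).homMonoidHom (X := X) (M := G)) f).symm
    · exact hg

/-- An immersion of groups over a field has closed range. -/
theorem isClosed_range_immersion {K : Type u} [Field K] {A B : Over (Spec (CommRingCat.of K))} [GrpObj A] [GrpObj B]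
    (u : A ⟶ B) [IsMonHom u] [IsImmersion u.left] : IsClosed (Set.range u.left) := by
  refine Groth.L25.Translate.isClosed_range_of_inter u (O := (u.left.coborderRange : Set B.left)) u.left.coborderRange.2 ?_
  rw [Scheme.Hom.coborderRange]
  exact (closure_inter_coborder).symm

theorem baseChange_minimal [GeometricallyReduced X.hom] (f : X ⟶ G) (Γ : Over (Spec (CommRingCat.of k))) [GrpObj Γ]
    (i : Γ ⟶ G) [IsMonHom i] [IsClosedImmersion i.left] (hf : ∃ f' : X ⟶ Γ, f' ≫ i = f)
    (hmin : ∀ (Γ' : Over (Spec (CommRingCat.of k))) (_ : GrpObj Γ') (i' : Γ' ⟶ G), IsMonHom i' → IsClosedImmersion i'.left →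
        (∃ f'' : X ⟶ Γ', f'' ≫ i' = f) → ∃ j : Γ ⟶ Γ', j ≫ i' = i)
    (S : Scheme.{u}) (σ : S ⟶ (Spec (CommRingCat.of k))) (Γ' : Over S) [GrpObj Γ'] (i' : Γ' ⟶ Red.bc σ G)
    [IsMonHom i'] [IsImmersion i'.left] (g : Red.bc σ X ⟶ Γ') (hg : g ≫ i' = (Over.pullback σ).map f) :
    ∃ j : Red.bc σ Γ ⟶ Γ', j ≫ i' = (Over.pullback σ).map i := by
  obtain ⟨Γ₀, _, i₀, hi₀, hc₀, hf₀, -, hmin₀, h₀, hh₀, hdom₀⟩ := exists_generated f
  haveI := hi₀
  haveI := hc₀
  obtain ⟨a, ha⟩ := hmin Γ₀ inferInstance i₀ inferInstance inferInstance hf₀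
  obtain ⟨b, hb⟩ := hmin₀ Γ inferInstance i inferInstance inferInstance hf
  haveI : Mono i := Over.mono_of_mono_left i
  haveI : Mono i₀ := Over.mono_of_mono_left i₀
  haveI : IsIso b := ⟨a, by rw [← cancel_mono i₀, Category.assoc, ha, hb, Category.id_comp],
    by rw [← cancel_mono i, Category.assoc, hb, ha, Category.id_comp]⟩
  haveI : IsIso b.left := inferInstanceAs (IsIso ((Over.forget _).map b))
  let h : ∀ l : ULift.{u} (List Bool), WObj X l.down ⟶ Γ := fun l => h₀ l ≫ b
  have hh : ∀ l, h l ≫ i = wMap f l.down := fun l => by simp only [h, Category.assoc, hb, hh₀]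
  have hdom : Dom fun l => (h l).left := dom_comp_iso hdom₀ b.left
  let bw : ∀ l : ULift.{u} (List Bool), (Red.bc σ (WObj X l.down)).left ⟶ (Red.bc σ Γ).left := fun l => ((Over.pullback σ).map (h l)).left
  have hbw : Dom bw := by
    refine dom_iso_comp (dom_whiskerRight h hdom (Over.mk σ)) (fun l => 𝟙 _) fun l => ?_
    rw [Category.id_comp]
    show (h l ▷ Over.mk σ).left = _
    rw [Over.whiskerRight_left]
    apply pullback.hom_ext <;> simp [bw, pullback.map] <;> first
      | erw [pullback.lift_fst, pullback.lift_fst]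
      | erw [pullback.lift_snd, pullback.lift_snd]
  let jl := ((Over.pullback σ).map i).left
  -- the range is everything
  have hrange : Set.range jl ⊆ Set.range i'.left := by
    rintro _ ⟨y, rfl⟩
    let s : S := (Red.bc σ Γ).hom y
    let ρ : Spec (S.residueField s) ⟶ S := S.fromSpecResidueField s
    let J := (Over.pullback ρ).map ((Over.pullback σ).map i)
    let I' := (Over.pullback ρ).map i'
    haveI : IsMonHom I' := inferInstanceAs (IsMonHom ((Over.pullback ρ).map i'))
    have sq : ∀ {A B : Over S} (u : A ⟶ B), IsPullback (pullback.fst A.hom ρ) ((Over.pullback ρ).map u).left u.left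
        (pullback.fst B.hom ρ) := fun {A B} u => by
      refine IsPullback.of_bot ?_ (pullback.lift_fst _ _ _).symm (IsPullback.of_hasPullback B.hom ρ)
      rw [Over.w u, show ((Over.pullback ρ).map u).left ≫ pullback.snd B.hom ρ = pullback.snd A.hom ρ from
        pullback.lift_snd _ _ _]
      exact IsPullback.of_hasPullback _ _
    haveI : IsImmersion I'.left := MorphismProperty.of_isPullback (sq i') ‹IsImmersion i'.left›
    have hC : IsClosed (Set.range I'.left) :=
      isClosed_range_immersion (K := S.residueField s) (A := Red.bc ρ Γ') (B := Red.bc ρ (Red.bc σ G)) I'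
    -- a dense family of points
    let e := pullbackLeftPullbackSndIso Γ.hom σ ρ
    let P : Over (Spec (CommRingCat.of k)) := Over.mk (ρ ≫ σ)
    have hd := dom_dense (dom_whiskerRight h hdom P)
    have hsub : ∀ z : (Γ ⊗ P).left, J.left (e.inv z) ∈ Set.range I'.left := by
      intro z
      suffices hs : Set.univ ⊆ (e.inv ≫ J.left) ⁻¹' Set.range I'.left from hs trivial
      rw [← hd.closure_eq]
      refine closure_minimal (Set.iUnion_subset fun l => ?_) (hC.preimage (Scheme.Hom.continuous _))
      rintro _ ⟨w, rfl⟩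
      show J.left (e.inv ((h l ▷ P).left w)) ∈ Set.range I'.left
      obtain ⟨q, hq⟩ := exists_map_factor σ f Γ' i' g hg l.down
      let e' := pullbackLeftPullbackSndIso (WObj X l.down).hom σ ρ
      have hsquare : (h l ▷ P).left ≫ e.inv = e'.inv ≫ ((Over.pullback ρ).map ((Over.pullback σ).map (h l))).left := by
        rw [Iso.eq_inv_comp, ← Category.assoc, Iso.comp_inv_eq]
        rw [Over.whiskerRight_left]
        apply pullback.hom_ext
        · simp only [e, e', P, Category.assoc, pullback.map, Over.pullback_map_left]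
          erw [pullback.lift_fst]
          simp
          erw [pullback.lift_fst_assoc]
          rw [Category.assoc]
          erw [pullback.lift_fst]
        · simp only [e, e', P, Category.assoc, pullback.map, Over.pullback_map_left]
          erw [pullback.lift_snd]
          simp
          erw [pullback.lift_snd]
      have e1 : (Over.pullback ρ).map ((Over.pullback σ).map (h l)) ≫ J = (Over.pullback ρ).map q ≫ I' := by
        simp only [J, I', ← Functor.map_comp, hq, hh]
      have e2 : ((h l ▷ P).left ≫ e.inv) ≫ J.left = e'.inv ≫ ((Over.pullback ρ).map q).left ≫ I'.left := by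
        rw [hsquare, Category.assoc, ← Over.comp_left, e1, Over.comp_left]
      rw [← Scheme.Hom.comp_apply, ← Scheme.Hom.comp_apply, ← Category.assoc, e2, Scheme.Hom.comp_apply,
        Scheme.Hom.comp_apply]
      exact ⟨_, rfl⟩
    obtain ⟨z, hz, -⟩ := Scheme.Pullback.exists_preimage_pullback (f := (Red.bc σ Γ).hom) (g := ρ) y
      (IsLocalRing.closedPoint _) (Scheme.fromSpecResidueField_apply s _).symm
    obtain ⟨w, hw⟩ := hsub (e.hom z)
    rw [← Scheme.Hom.comp_apply e.hom e.inv, e.hom_inv_id] at hw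
    change I'.left w = J.left z at hw
    refine ⟨pullback.fst Γ'.hom ρ w, ?_⟩
    rw [← Scheme.Hom.comp_apply, (sq i').w, Scheme.Hom.comp_apply]
    show pullback.fst _ ρ (I'.left w) = jl y
    rw [hw, ← Scheme.Hom.comp_apply, ← (sq ((Over.pullback σ).map i)).w, Scheme.Hom.comp_apply]
    exact congrArg jl hz
  -- the pullback of the subgroup is everything
  let pr : pullback i'.left jl ⟶ (Red.bc σ Γ).left := pullback.snd i'.left jl
  haveI : IsImmersion pr := MorphismProperty.pullback_snd _ _ ‹IsImmersion i'.left›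
  haveI : Surjective pr := ⟨fun y => by
    obtain ⟨v, hv⟩ := hrange ⟨y, rfl⟩
    obtain ⟨w, -, hw⟩ := Scheme.Pullback.exists_preimage_pullback (f := i'.left) (g := jl) v y hv
    exact ⟨w, hw⟩⟩
  haveI : IsClosedImmersion pr := IsClosedImmersion.of_isPreimmersion pr (by
    rw [pr.surjective.range_eq]; exact isClosed_univ)
  haveI : IsIso pr := by
    rw [IsClosedImmersion.isIso_iff_ker_eq_bot]
    ext U t
    rw [Scheme.Hom.ker_apply, RingHom.mem_ker]
    simp only [Scheme.IdealSheafData.ideal_bot, Pi.bot_apply, Ideal.mem_bot]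
    refine ⟨fun ht => hbw U.1 t fun l => ?_, fun ht => by rw [ht, map_zero]⟩
    obtain ⟨q, hq⟩ := exists_map_factor σ f Γ' i' g hg l.down
    have hl : q.left ≫ i'.left = bw l ≫ jl := by
      rw [← Over.comp_left, hq, ← hh l, Functor.map_comp, Over.comp_left]
    have hfac : pullback.lift q.left (bw l) hl ≫ pr = bw l := pullback.lift_snd _ _ _
    rw [← hfac, Scheme.Hom.comp_app]
    exact (congrArg ((pullback.lift q.left (bw l) hl).app (pr ⁻¹ᵁ U.1)).hom ht).trans (map_zero _)
  refine ⟨Over.homMk (inv pr ≫ pullback.fst i'.left jl) ?_, Over.OverMorphism.ext ?_⟩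
  · show (_ ≫ _) ≫ Γ'.hom = _
    rw [← Over.w i', Category.assoc, pullback.condition_assoc, IsIso.inv_hom_id_assoc]
    exact Over.w ((Over.pullback σ).map i)
  · show (_ ≫ _) ≫ i'.left = _
    rw [Category.assoc, pullback.condition, IsIso.inv_hom_id_assoc]

end Groth.L15.GenSub
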