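import Groth.Agent.L15.SubGrp.Image
import Groth.Agent.L15.GenSub.Dom
import Groth.Agent.L26.AV.GroupSep
import Groth.Agent.L16.SecComp.Smooth
import Groth.Agent.L08.SubgroupObj
import Groth.Prelude.Def_Red
import Mathlib.AlgebraicGeometry.Morphisms.Smooth
import Mathlib.CategoryTheory.Monoidal.Cartesian.Grp
import Mathlib.CategoryTheory.Monoidal.Cartesian.Mon

/-!
The subgroup generated by two subgroups one of which normalizes the other is the image of their product.
-/

set_option autoImplicit false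
universe u

open CategoryTheory CategoryTheory.Limits MonoidalCategory CartesianMonoidalCategory MonObj AlgebraicGeometry

set_option backward.isDefEq.respectTransparency.types false

namespace Groth.L15.GenSub

variable {k : Type u} [Field k]

theorem prod_mul {G B T : Over (Spec (CommRingCat.of k))} [GrpObj G] [GrpObj B] (x y : T ⟶ G ⊗ B) :
    x * y = lift ((x ≫ fst G B) * (y ≫ fst G B)) ((x ≫ snd G B) * (y ≫ snd G B)) := by
  apply CartesianMonoidalCategory.hom_ext <;> simp [MonObj.mul_comp]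

theorem normalizing_pair {G A B : Over (Spec (CommRingCat.of k))} [GrpObj G] [GrpObj A] [GrpObj B]
    (a : A ⟶ G) [IsMonHom a] [IsClosedImmersion a.left] (b : B ⟶ G) [IsMonHom b]
    [Smooth A.hom] [QuasiCompact A.hom] [Smooth B.hom] [QuasiCompact B.hom]
    (hN : ∀ (T : Over (Spec (CommRingCat.of k))) (y : T ⟶ B) (x : T ⟶ A), ∃ x' : T ⟶ A, (y ≫ b) * (x ≫ a) * (y ≫ b)⁻¹ = x' ≫ a)
    (Γ : Over (Spec (CommRingCat.of k))) [GrpObj Γ] (i : Γ ⟶ G) [IsMonHom i] [IsClosedImmersion i.left]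
    (ha : ∃ a' : A ⟶ Γ, a' ≫ i = a) (hb : ∃ b' : B ⟶ Γ, b' ≫ i = b)
    (hmin : ∀ (Γ' : Over (Spec (CommRingCat.of k))) (_ : GrpObj Γ') (i' : Γ' ⟶ G), IsMonHom i' → IsClosedImmersion i'.left →
        (∃ a'' : A ⟶ Γ', a'' ≫ i' = a) → (∃ b'' : B ⟶ Γ', b'' ≫ i' = b) → ∃ j : Γ ⟶ Γ', j ≫ i' = i) :
    IsReduced Γ.left ∧ Set.range i.left.base = Set.range ((a ⊗ₘ b) ≫ μ[G]).left.base := by
  haveI : Mono a := Over.mono_of_mono_left a
  let P := A ⊗ B
  let m : P ⟶ G := (fst A B ≫ a) * (snd A B ≫ b)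
  have hm : (a ⊗ₘ b) ≫ μ[G] = m := by simp [m, Hom.mul_def]
  -- the semidirect product
  let j : P ⟶ G ⊗ B := lift m (snd A B)
  haveI : Mono j := ⟨fun {T} x y h => by
    have h1 := congrArg (· ≫ fst G B) h
    have h2 := congrArg (· ≫ snd G B) h
    simp only [j, m, Category.assoc, lift_fst, lift_snd, MonObj.comp_mul] at h1 h2
    rw [← Category.assoc x (snd A B), h2, Category.assoc, mul_left_inj, ← Category.assoc, ← Category.assoc,
      cancel_mono] at h1
    exact CartesianMonoidalCategory.hom_ext _ _ h1 h2⟩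
  have hone : ∃ z : 𝟙_ _ ⟶ P, z ≫ j = η[G ⊗ B] := by
    refine ⟨lift 1 1, ?_⟩
    rw [MonObj.one_eq_one]
    apply CartesianMonoidalCategory.hom_ext <;> simp [j, m, MonObj.comp_mul, MonObj.one_comp]
  have hmul : ∃ z : P ⊗ P ⟶ P, z ≫ j = (fst P P ≫ j) * (snd P P ≫ j) := by
    obtain ⟨x', hx'⟩ := hN (P ⊗ P) (fst P P ≫ snd A B) (snd P P ≫ fst A B)
    refine ⟨lift ((fst P P ≫ fst A B) * x') ((fst P P ≫ snd A B) * (snd P P ≫ snd A B)), ?_⟩
    rw [prod_mul]
    apply CartesianMonoidalCategory.hom_ext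
    · simp only [j, m, Category.assoc, lift_fst, MonObj.comp_mul, lift_fst_assoc, lift_snd_assoc,
        MonObj.mul_comp, ← hx']
      group
    · simp [j]
  have hinv : ∃ z : P ⟶ P, z ≫ j = j⁻¹ := by
    obtain ⟨x', hx'⟩ := hN P (snd A B)⁻¹ (fst A B)⁻¹
    refine ⟨lift x' (snd A B)⁻¹, ?_⟩
    apply CartesianMonoidalCategory.hom_ext
    · simp only [j, m, Category.assoc, lift_fst, lift_fst_assoc, lift_snd_assoc, MonObj.comp_mul,
        GrpObj.inv_comp, ← hx']
      group
    · simp [j, GrpObj.inv_comp]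
  obtain ⟨gP, hj⟩ := Groth.L08.exists_grpObj_of_mono j hone hmul hinv
  have hmh : @IsMonHom _ _ _ P G gP.toMonObj _ m := by
    have e : m = j ≫ fst G B := (lift_fst _ _).symm
    rw [e]
    exact @CategoryTheory.instIsMonHomComp _ _ _ P (G ⊗ B) G gP.toMonObj _ _ j (fst G B) hj inferInstance
  haveI : QuasiCompact P.hom := inferInstanceAs (QuasiCompact (pullback.fst A.hom B.hom ≫ A.hom))
  haveI := Groth.Agent.AV.isSeparated_of_grpObj G
  haveI : QuasiCompact (m.left ≫ G.hom) := by rw [Over.w]; infer_instance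
  haveI : QuasiCompact m.left := QuasiCompact.of_comp m.left G.hom
  obtain ⟨Γ₁, _, i₁, m', hi₁, hm', hfac, hc₁, hker, hqc, hsur⟩ :=
    @Groth.L15.SubGrp.exists_subgroup_image k _ P G gP _ m hmh inferInstance
  haveI := hi₁
  haveI := hc₁
  haveI : Mono i := Over.mono_of_mono_left i
  haveI : Mono i₁ := Over.mono_of_mono_left i₁
  obtain ⟨t, ht⟩ := hmin Γ₁ inferInstance i₁ inferInstance inferInstance
    ⟨lift (𝟙 A) 1 ≫ m', by
      rw [Category.assoc, hfac]
      simp [m, MonObj.comp_mul, MonObj.one_comp]⟩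
    ⟨lift 1 (𝟙 B) ≫ m', by
      rw [Category.assoc, hfac]
      simp [m, MonObj.comp_mul, MonObj.one_comp]⟩
  obtain ⟨a', ha'⟩ := ha
  obtain ⟨b', hb'⟩ := hb
  have hle : i.left.ker ≤ i₁.left.ker := by
    have e : ((fst A B ≫ a') * (snd A B ≫ b')) ≫ i = m := by
      rw [MonObj.mul_comp, Category.assoc, Category.assoc, ha', hb']
    have h1 : i₁.left.ker = m.left.ker := by
      rw [← hfac, Over.comp_left, Scheme.Hom.ker_comp, hker, Scheme.IdealSheafData.map_bot]
    rw [h1, ← e, Over.comp_left]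
    exact Scheme.Hom.le_ker_comp _ _
  let t' : Γ₁ ⟶ Γ := Over.homMk (IsClosedImmersion.lift i.left i₁.left hle)
    (by rw [← Over.w i, IsClosedImmersion.lift_fac_assoc, Over.w i₁])
  have ht' : t' ≫ i = i₁ := Over.OverMorphism.ext (IsClosedImmersion.lift_fac _ _ _)
  haveI : IsIso t := ⟨t', by rw [← cancel_mono i, Category.assoc, ht', ht, Category.id_comp],
    by rw [← cancel_mono i₁, Category.assoc, ht, ht', Category.id_comp]⟩
  haveI : IsIso t.left := inferInstanceAs (IsIso ((Over.forget _).map t))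
  haveI : IsReduced P.left := by
    haveI : Smooth P.hom := inferInstanceAs (Smooth (pullback.fst A.hom B.hom ≫ A.hom))
    exact Groth.L16.SecComp.isReduced_of_smooth P.hom
  haveI : IsSchemeTheoreticallyDominant m'.left := ⟨hker⟩
  haveI := hqc
  haveI : IsReduced Γ₁.left := IsSchemeTheoreticallyDominant.isReduced m'.left
  refine ⟨isReduced_of_isOpenImmersion t.left, ?_⟩
  rw [hm, ← hfac, ← ht, Over.comp_left, Over.comp_left, Scheme.Hom.comp_base, Scheme.Hom.comp_base,
    TopCat.coe_comp, TopCat.coe_comp, hsur.surj.range_comp, t.left.surjective.range_comp]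

end Groth.L15.GenSub
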